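import Groth.Agent.LpullTildeLib.Main
import Groth.Agent.KFlatLib.LpullComp
import Groth.Agent.PerfBaseLib.FlatProper
import Groth.Agent.DualCxLib.Sch2
import Groth.Agent.DualBCLib.GorApps
import Groth.Agent.GorLib.Chart
import Groth.Agent.GorLib.Scheme
import Groth.Agent.GorLib.LCIFibre
import Groth.Agent.S0997
import Groth.Prelude.Def_Dual3

/-!
# Derived pullback of dualizing complexes in affine charts
-/

set_option autoImplicit false
set_option linter.style.haveILetI false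
set_option maxHeartbeats 1000000

universe u

open CategoryTheory CategoryTheory.Limits AlgebraicGeometry
open scoped TensorProduct

attribute [local instance] HasDerivedCategory.standard

namespace DualLpullLib

variable {X Y : Scheme.{u}}

theorem nonempty_lpull_congr {f f' : X ⟶ Y} (h : f = f') [DCoh.HasLpull f] [DCoh.HasLpull f'] (E : DCoh.D Y) :
    Nonempty ((DCoh.Lpull f).obj E ≅ (DCoh.Lpull f').obj E) := by
  subst h
  exact ⟨Iso.refl _⟩

theorem nonempty_lpull_restrictD_openImmersion (j : X ⟶ Y) [IsOpenImmersion j] [DCoh.HasLpull j] (K : DCoh.D Y) :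
    Nonempty ((DCoh.Lpull j).obj K ≅ (DCoh.restrictD j).obj K) := by
  obtain ⟨P, hP, ⟨e⟩⟩ := KFlatLib.exists_good_rep K
  exact ⟨(DCoh.Lpull j).mapIso e.symm ≪≫ KFlatLib.lpullObjIso j P hP.1 ≪≫
    DerivedCategory.Q.mapIso
      ((NatIso.mapHomologicalComplex (Scheme.Modules.restrictFunctorIsoPullback j) (ComplexShape.up ℤ)).app P).symm ≪≫
    ((Scheme.Modules.restrictFunctor j).mapDerivedCategoryFactors.app P).symm ≪≫
    (DCoh.restrictD j).mapIso e⟩

variable (f : X ⟶ Y) {V : Y.Opens} (hV : IsAffineOpen V) {U : X.Opens} (hU : IsAffineOpen U) (e : U ≤ f ⁻¹ᵁ V)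

/-- Restriction of `Lf^*K` to a chart. -/
theorem nonempty_restrict_lpull [DCoh.HasLpull f]
    [DRing.HasLBaseChange (f.appLE V U e).hom]
    (K : DCoh.D Y) {ω : Dual.D Γ(Y, V)}
    (i : (DCoh.restrictD hV.fromSpec).obj K ≅ (DCoh.tildeD (CommRingCat.of Γ(Y, V))).obj ω) :
    Nonempty ((DCoh.restrictD hU.fromSpec).obj ((DCoh.Lpull f).obj K) ≅
      (DCoh.tildeD (CommRingCat.of Γ(X, U))).obj ((DRing.LBaseChange (f.appLE V U e).hom).obj ω)) := by
  let g := Spec.map (CommRingCat.ofHom (f.appLE V U e).hom)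
  haveI := KFlatLib.hasLpull hU.fromSpec
  haveI := KFlatLib.hasLpull hV.fromSpec
  haveI := KFlatLib.hasLpull g
  haveI := KFlatLib.hasLpull (hU.fromSpec ≫ f)
  haveI := KFlatLib.hasLpull (g ≫ hV.fromSpec)
  have hfac : hU.fromSpec ≫ f = g ≫ hV.fromSpec :=
    (hV.SpecMap_appLE_fromSpec f hU e).symm
  obtain ⟨r₁⟩ := nonempty_lpull_restrictD_openImmersion hU.fromSpec ((DCoh.Lpull f).obj K)
  obtain ⟨r₂⟩ := nonempty_lpull_restrictD_openImmersion hV.fromSpec K
  obtain ⟨c₁'⟩ := KFlatLib.lpull_comp hU.fromSpec f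
  let c₁ := c₁'.app K
  obtain ⟨c⟩ := nonempty_lpull_congr hfac K
  obtain ⟨c₂'⟩ := KFlatLib.lpull_comp g hV.fromSpec
  let c₂ := c₂'.app K
  obtain ⟨t⟩ := LpullTildeLib.nonempty_iso (f.appLE V U e).hom
  exact ⟨r₁.symm ≪≫ c₁ ≪≫ c ≪≫ c₂.symm ≪≫ (DCoh.Lpull g).mapIso (r₂ ≪≫ i) ≪≫ (t.app ω).symm⟩

include hV hU in
/-- Fibre rings of a Gorenstein morphism in a chart. -/
theorem gorensteinRing_fibre_chart [LocallyOfFiniteType f] (hf : ∀ x ∈ U, Dual3.IsGorensteinAt f x) :
    letI := (f.appLE V U e).hom.toAlgebra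
    ∀ (p : Ideal Γ(Y, V)) [p.IsPrime], LocCoh.IsGorensteinRing (Γ(X, U) ⊗[Γ(Y, V)] p.ResidueField) := by
  letI := (f.appLE V U e).hom.toAlgebra
  intro p hp
  haveI : Algebra.FiniteType Γ(Y, V) Γ(X, U) := f.finiteType_appLE hV hU e
  haveI : IsNoetherianRing (p.Fiber Γ(X, U)) := Algebra.FiniteType.isNoetherianRing p.ResidueField _
  refine GorLib.gorensteinRing_of_ringEquiv (Algebra.TensorProduct.comm Γ(Y, V) Γ(X, U) p.ResidueField).toRingEquiv
    (GorLib.gorensteinRing_fiber fun r hr hrp => ?_)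
  let q : PrimeSpectrum Γ(X, U) := ⟨r, hr⟩
  have hx : hU.fromSpec q ∈ U := hU.range_fromSpec.le ⟨q, rfl⟩
  have hr' : r = (hU.primeIdealOf ⟨hU.fromSpec q, hx⟩).asIdeal := by
    have : hU.primeIdealOf ⟨hU.fromSpec q, hx⟩ = q :=
      hU.fromSpec.isOpenEmbedding.injective (hU.fromSpec_primeIdealOf ⟨hU.fromSpec q, hx⟩)
    rw [this]
  exact ((GorLib.isGorensteinAt_chart f hV hU e rfl (hU.fromSpec q) hx p r hr' hrp.symm).2.1).1
    ((GorLib.isGorensteinAt_iff f _).1 (hf _ hx)).2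

/-- A flat local complete intersection morphism is Gorenstein. -/
theorem isGorensteinMor_of_flat_isLCIMor {f : X ⟶ Y} [Flat f] (hf : Dual3.IsLCIMor f) : Dual3.IsGorensteinMor f := by
  intro x
  obtain ⟨U, V, e, hx, hlci⟩ := hf x
  letI := (f.appLE V.1 U.1 e).hom.toAlgebra
  haveI : Module.Flat Γ(Y, V.1) Γ(X, U.1) := f.flat_appLE V.2 U.2 e
  let r := (U.2.primeIdealOf ⟨x, hx⟩).asIdeal
  let p := r.comap (algebraMap Γ(Y, V.1) Γ(X, U.1))
  refine (GorLib.isGorensteinAt_iff f x).2 ⟨Flat.stalkMap f x, ?_⟩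
  refine ((GorLib.isGorensteinAt_chart f V.2 U.2 e rfl x hx p r rfl rfl).2.1).2 ?_
  exact GorLib.gorenstein_fibre_loc (GorLib.gorensteinRing_of_ringEquiv
    (Algebra.TensorProduct.comm _ _ _).toRingEquiv (GorLib.gorensteinRing_fibre_of_flat_isLCI hlci p)) r rfl

/-- A local complete intersection morphism is locally of finite type. -/
theorem locallyOfFiniteType_of_isLCIMor {f : X ⟶ Y} (hf : Dual3.IsLCIMor f) : LocallyOfFiniteType f := by
  refine (HasRingHomProperty.iff_exists_appLE (P := @LocallyOfFiniteType)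
    (RingHom.finiteType_stableUnderComposition.stableUnderCompositionWithLocalizationAway RingHom.finiteType_holdsForLocalizationAway).1).2 fun x => ?_
  obtain ⟨U, V, e, hx, hlci⟩ := hf x
  exact ⟨V, U, hx, e, hlci.1⟩

end DualLpullLib
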