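import Groth.Agent.DualLpullLib.Chart
import Groth.Agent.KFlatLib.QCohLpull

/-!
# Derived pullback along flat Gorenstein morphisms preserves and detects dualizing complexes
-/

set_option autoImplicit false
set_option linter.style.haveILetI false
set_option maxHeartbeats 1000000

universe u

open CategoryTheory CategoryTheory.Limits AlgebraicGeometry
open Groth.Agent

attribute [local instance] HasDerivedCategory.standard

namespace DualLpullLib

variable {X Y : Scheme.{u}} [IsLocallyNoetherian X] [IsLocallyNoetherian Y]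
  [∀ (U V : Scheme.{u}) (j : U ⟶ V) [IsOpenImmersion j], PreservesFiniteLimits (Scheme.Modules.restrictFunctor j)]
  [∀ (R : CommRingCat.{u}), PreservesFiniteLimits (tilde.functor R)]
  (f : X ⟶ Y) [Flat f] [LocallyOfFiniteType f] [DCoh.HasLpull f]

/-- Flat Gorenstein pullback of a dualizing complex is dualizing. -/
theorem isDualizingSch_lpull (hf : Dual3.IsGorensteinMor f) (K : DCoh.D Y) (hK : Dual2.IsDualizingSch Y K) :
    Dual2.IsDualizingSch X ((DCoh.Lpull f).obj K) := by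
  have H : ∀ x : X, ∃ (V : Y.Opens) (_ : IsAffineOpen V) (U : X.Opens) (_ : IsAffineOpen U),
      x ∈ U ∧ U ≤ f ⁻¹ᵁ V := fun x => by
    obtain ⟨_, ⟨V, hV, rfl⟩, hy, -⟩ := Y.isBasis_affineOpens.exists_subset_of_mem_open (Set.mem_univ (f x)) isOpen_univ
    obtain ⟨_, ⟨U, hU, rfl⟩, hx, hle⟩ :=
      X.isBasis_affineOpens.exists_subset_of_mem_open (show x ∈ (f ⁻¹ᵁ V : Set X) from hy) (f ⁻¹ᵁ V).2
    exact ⟨V, hV, U, hU, hx, hle⟩
  choose V hV U hU hx e using H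
  refine DualCxLib.isDualizingSch_of_cover (fun x => Γ(X, U x)) (fun x => (hU x).fromSpec)
    (fun x => ⟨x, (hU x).range_fromSpec.ge (hx x)⟩) fun x => ?_
  obtain ⟨ω, hω, ⟨i⟩⟩ := hK Γ(Y, V x) (hV x).fromSpec
  letI := (f.appLE (V x) (U x) (e x)).hom.toAlgebra
  haveI : IsNoetherianRing Γ(Y, V x) := IsLocallyNoetherian.component_noetherian ⟨V x, hV x⟩
  haveI : IsNoetherianRing Γ(X, U x) := IsLocallyNoetherian.component_noetherian ⟨U x, hU x⟩
  haveI : Module.Flat Γ(Y, V x) Γ(X, U x) := f.flat_appLE (hV x) (hU x) (e x)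
  haveI : Algebra.FiniteType Γ(Y, V x) Γ(X, U x) := f.finiteType_appLE (hV x) (hU x) (e x)
  haveI := DRingLib.hasLBaseChange (f.appLE (V x) (U x) (e x)).hom
  refine ⟨_, ?_, nonempty_restrict_lpull f (hV x) (hU x) (e x) K i⟩
  exact DualBCLib.isDualizing_of_fibreRings hω
    (DualBCLib.dim_finiteType_lt_top (A := Γ(Y, V x)) (DualCxLib.ringKrullDim_lt_top hω))
    (gorensteinRing_fibre_chart f (hV x) (hU x) (e x) fun y _ => hf y)

/-- A flat Gorenstein surjection detects dualizing complexes. -/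
theorem isDualizingSch_of_lpull [Surjective f] (hf : Dual3.IsGorensteinMor f) (K : DCoh.D Y)
    (hKq : DCoh.IsQCohD K) (hX : Dual2.IsDualizingSch X ((DCoh.Lpull f).obj K)) :
    Dual2.IsDualizingSch Y K := by
  haveI : LocallyOfFinitePresentation f := LocallyOfFinitePresentation.iff_locallyOfFiniteType.2 ‹_›
  have H : ∀ y : Y, ∃ (V : Y.Opens) (_ : IsAffineOpen V) (U : X.Opens) (_ : IsAffineOpen U) (_ : U ≤ f ⁻¹ᵁ V),
      y ∈ V ∧ (V : Set Y) ⊆ f '' U := fun y => by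
    obtain ⟨x, rfl⟩ := f.surjective y
    obtain ⟨_, ⟨V₀, hV₀, rfl⟩, hy, -⟩ := Y.isBasis_affineOpens.exists_subset_of_mem_open (Set.mem_univ (f x)) isOpen_univ
    obtain ⟨_, ⟨U₀, hU₀, rfl⟩, hx, hle⟩ :=
      X.isBasis_affineOpens.exists_subset_of_mem_open (show x ∈ (f ⁻¹ᵁ V₀ : Set X) from hy) (f ⁻¹ᵁ V₀).2
    obtain ⟨g, hg, hyg⟩ := hV₀.exists_basicOpen_le
      (V := ⟨f '' U₀, f.isOpenMap _ U₀.2⟩) (⟨f x, x, hx, rfl⟩) hy
    have hle' : U₀ ≤ f ⁻¹ᵁ V₀ := hle
    refine ⟨Y.basicOpen g, hV₀.basicOpen g, X.basicOpen (f.appLE V₀ U₀ hle' g), hU₀.basicOpen _, ?_, hyg, ?_⟩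
    · rw [Scheme.basicOpen_appLE]; exact inf_le_right
    · intro z hz
      obtain ⟨w, hw, rfl⟩ := hg hz
      exact ⟨w, by rw [Scheme.basicOpen_appLE]; exact ⟨hw, hz⟩, rfl⟩
  choose V hV U hU e hy hsur using H
  refine DualCxLib.isDualizingSch_of_cover (fun y => Γ(Y, V y)) (fun y => (hV y).fromSpec)
    (fun y => ⟨y, (hV y).range_fromSpec.ge (hy y)⟩) fun y => ?_
  obtain ⟨-, -, himg⟩ := Groth.Agent.S0997.result (CommRingCat.of Γ(Y, V y))
  haveI := KFlatLib.hasLpull (hV y).fromSpec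
  obtain ⟨r⟩ := nonempty_lpull_restrictD_openImmersion (hV y).fromSpec K
  obtain ⟨ω, ⟨i⟩⟩ := (himg _).1 (KFlatLib.isQCohD_iso r (KFlatLib.isQCohD_lpull _ _ hKq))
  refine ⟨ω, ?_, ⟨i.symm⟩⟩
  letI := (f.appLE (V y) (U y) (e y)).hom.toAlgebra
  haveI : IsNoetherianRing Γ(Y, V y) := IsLocallyNoetherian.component_noetherian ⟨V y, hV y⟩
  haveI : IsNoetherianRing Γ(X, U y) := IsLocallyNoetherian.component_noetherian ⟨U y, hU y⟩
  haveI : Module.Flat Γ(Y, V y) Γ(X, U y) := f.flat_appLE (hV y) (hU y) (e y)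
  haveI : Algebra.FiniteType Γ(Y, V y) Γ(X, U y) := f.finiteType_appLE (hV y) (hU y) (e y)
  haveI : Module.FaithfullyFlat Γ(Y, V y) Γ(X, U y) := by
    refine Module.FaithfullyFlat.of_comap_surjective fun q => ?_
    obtain ⟨w, hw, hwq⟩ := hsur y ((hV y).range_fromSpec.le ⟨q, rfl⟩)
    refine ⟨(hU y).primeIdealOf ⟨w, hw⟩, ?_⟩
    refine (IsAffineOpen.comap_primeIdealOf_appLE (f := f) (V y) (hV y) (U y) (hU y) (e y) hw).trans ?_
    refine (hV y).fromSpec.isOpenEmbedding.injective ?_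
    rw [IsAffineOpen.fromSpec_primeIdealOf]
    exact hwq
  haveI := DRingLib.hasLBaseChange (f.appLE (V y) (U y) (e y)).hom
  obtain ⟨ω', hω', ⟨j⟩⟩ := hX Γ(X, U y) (hU y).fromSpec
  obtain ⟨j'⟩ := nonempty_restrict_lpull f (hV y) (hU y) (e y) K i.symm
  obtain ⟨c⟩ := DualCxLib.nonempty_iso_of_tildeD (j.symm ≪≫ j')
  exact (DualBCLib.isDualizing_iff_of_fibreRings
    (gorensteinRing_fibre_chart f (hV y) (hU y) (e y) fun z _ => hf z) ω).2
    (DualCxLib.isDualizing_of_iso c hω')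

end DualLpullLib
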